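import Mathlib
import Cfsg.Agent.Lib.Local.Gaschutz

/-!
Maschke's theorem for a `p`-group acting on an elementary abelian `t`-group, as a statement about subgroups.
-/

set_option autoImplicit false

namespace Cfsg.Lib.Local.Isolated

open Subgroup
open scoped commutatorElement

/-- In an elementary abelian group every subgroup has a complement. -/
theorem exists_compl {X : Type*} [Group X] [Finite X] {t : ℕ} [ht : Fact t.Prime] {V W : Subgroup X}
    (hV : Cfsg.IsElementaryAbelian t V) (hW : W ≤ V) : ∃ U ≤ V, W ⊔ U = V ∧ W ⊓ U = ⊥ := by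
  obtain ⟨U, ⟨hUV, hWU⟩, hmax⟩ := (Set.toFinite {U : Subgroup X | U ≤ V ∧ W ⊓ U = ⊥}).exists_maximal
    ⟨⊥, bot_le, inf_bot_eq W⟩
  refine ⟨U, hUV, le_antisymm (sup_le hW hUV) fun v hv => ?_, hWU⟩
  by_contra hvn
  have hcomm : ∀ x y : X, x ∈ V → y ∈ V → x * y = y * x := fun x y hx hy => by
    haveI := hV.1
    exact setLike_mul_comm hx hy
  have hUv : ⁅U, zpowers v⁆ = ⊥ := Cfsg.Lib.Core.commutator_eq_bot_iff_forall.2
    fun x hx y hy => hcomm x y (hUV hx) (zpowers_le.2 hv hy)
  have hle : U ⊔ zpowers v ≤ U := by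
    refine hmax ⟨sup_le hUV (zpowers_le.2 hv), eq_bot_iff.2 fun w hw => ?_⟩ le_sup_left
    obtain ⟨hwW, hwU⟩ := mem_inf.1 hw
    obtain ⟨u, hu, z, hz, rfl⟩ := (Cfsg.Lib.Core.mem_sup_of_commute hUv).1 hwU
    obtain ⟨n, rfl⟩ := hz
    have hmem : v ^ n ∈ W ⊔ U := by
      have : v ^ n = u⁻¹ * (u * v ^ n) := by group
      rw [this]
      exact mul_mem (mem_sup_right (inv_mem hu)) (mem_sup_left hwW)
    have hn : (t : ℤ) ∣ n := by
      by_contra hn
      refine hvn ?_
      have hg : IsCoprime (t : ℤ) n := (Nat.prime_iff_prime_int.1 ht.out).coprime_iff_not_dvd.2 hn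
      obtain ⟨a, b, hab⟩ := hg
      have hvt : v ^ (t : ℤ) = 1 := by rw [zpow_natCast]; exact hV.2 v hv
      have he : v = (v ^ n) ^ b := by
        conv_lhs => rw [← zpow_one v, ← hab, zpow_add, mul_comm a, zpow_mul, hvt, one_zpow, one_mul,
          mul_comm b, zpow_mul]
      rw [he]
      exact zpow_mem hmem b
    obtain ⟨m, rfl⟩ := hn
    have h1 : v ^ ((t : ℤ) * m) = 1 := by rw [zpow_mul, zpow_natCast, hV.2 v hv, one_zpow]
    simp only [h1, mul_one] at hwW ⊢
    rw [← hWU]
    exact ⟨hwW, hu⟩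
  exact hvn (mem_sup_right (hle (mem_sup_right (mem_zpowers v))))

/-- A `p`-group normalizing an elementary abelian `t`-group and one of its subgroups normalizes a complement. -/
theorem exists_invariant_compl {X : Type*} [Group X] [Finite X] {p t : ℕ} [hp : Fact p.Prime]
    [ht : Fact t.Prime] (hpt : p ≠ t) {S V W : Subgroup X} (hS : IsPGroup p ↥S)
    (hV : Cfsg.IsElementaryAbelian t V) (hW : W ≤ V) (hSV : S ≤ normalizer (V : Set X))
    (hSW : S ≤ normalizer (W : Set X)) :
    ∃ U ≤ V, S ≤ normalizer (U : Set X) ∧ W ⊔ U = V ∧ W ⊓ U = ⊥ := by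
  haveI := hV.1
  haveI : IsMulCommutative ↥W := ⟨⟨fun a b => Subtype.ext (setLike_mul_comm (hW a.2) (hW b.2))⟩⟩
  set H := V ⊔ S with hH
  have hVH : V ≤ H := le_sup_left
  have hSH : S ≤ H := le_sup_right
  haveI hVn : (V.subgroupOf H).Normal :=
    (normal_subgroupOf_iff_le_normalizer hVH).2 (sup_le le_normalizer hSV)
  haveI hWn : (W.subgroupOf H).Normal :=
    (normal_subgroupOf_iff_le_normalizer (hW.trans hVH)).2 (sup_le (fun x hx => by
      rw [mem_normalizer_iff]
      intro w
      constructor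
      · intro hw
        rwa [setLike_mul_comm hx (hW hw), mul_inv_cancel_right]
      · intro hw
        have h := hW hw
        have hwV : w ∈ V := by
          have := mul_mem (mul_mem (inv_mem hx) h) hx
          simpa [mul_assoc] using this
        rwa [setLike_mul_comm hx hwV, mul_inv_cancel_right] at hw) hSW)
  haveI : IsMulCommutative ↥(W.subgroupOf H) :=
    ⟨⟨fun a b => Subtype.ext (Subtype.ext (setLike_mul_comm (hW a.2) (hW b.2)))⟩⟩
  have hmap : ∀ {A : Subgroup X}, A ≤ H → (A.subgroupOf H).map H.subtype = A := fun {A} hA => by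
    rw [subgroupOf_map_subtype, inf_eq_left.2 hA]
  obtain ⟨U₀, hU₀V, hsup, hinf⟩ := exists_compl hV hW
  have hex : (complementsIn (W.subgroupOf H) (V.subgroupOf H)).Nonempty := by
    refine ⟨U₀.subgroupOf H, ?_, map_injective H.subtype_injective ?_⟩
    · refine map_injective H.subtype_injective ?_
      rw [map_inf _ _ _ H.subtype_injective, hmap (hU₀V.trans hVH), hmap (hW.trans hVH), inf_comm, hinf,
        Subgroup.map_bot]
    · rw [Subgroup.map_sup, hmap (hU₀V.trans hVH), hmap (hW.trans hVH), hmap hVH, sup_comm, hsup]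
  have hcop : (Nat.card ↥(W.subgroupOf H)).Coprime p := by
    rw [Nat.card_congr (subgroupOfEquivOfLe (hW.trans hVH)).toEquiv]
    have hWt : IsPGroup t ↥W := fun w => ⟨1, Subtype.ext (by simpa using hV.2 w (hW w.2))⟩
    obtain ⟨k, hk⟩ := hWt.exists_card_eq
    rw [hk]
    exact Nat.Coprime.pow_left _ ((Nat.coprime_primes ht.out hp.out).2 (Ne.symm hpt))
  obtain ⟨L, ⟨hLW, hLV⟩, hPL⟩ := exists_normalized_complement (p := p) hcop hex
    (P := S.subgroupOf H) (hS.comap_of_injective H.subtype H.subtype_injective)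
  refine ⟨L.map H.subtype, ?_, ?_, ?_, ?_⟩
  · rw [← hmap hVH, ← hLV]
    exact map_mono le_sup_left
  · exact (hmap hSH).ge.trans ((map_mono hPL).trans (le_normalizer_map _))
  · conv_lhs => rw [← hmap (hW.trans hVH)]
    rw [← Subgroup.map_sup, sup_comm, hLV, hmap hVH]
  · conv_lhs => rw [← hmap (hW.trans hVH)]
    rw [← map_inf _ _ _ H.subtype_injective, inf_comm, hLW, Subgroup.map_bot]

end Cfsg.Lib.Local.Isolated
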