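import Mathlib

/-!
An operator whose centralizer together with an invariant `t`-subgroup covers a group `Y` moves `Y`
only inside a `t`-group: the commutators `[y, a]` act unipotently in every module in characteristic `t`.
-/

set_option autoImplicit false

namespace Cfsg.Lib.Local.Isolated

open Subgroup
open scoped commutatorElement

universe u v w

section

variable {H : Type u} [Group H] {K : Type v} [Field K] {t : ℕ} [Fact t.Prime] [CharP K t]

/-- A finite `t`-group fixes a nonzero vector in characteristic `t`. -/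
theorem exists_ne_zero_fixed [Finite H] {V : Type*} [AddCommGroup V] [Module K V] [Nontrivial V]
    (ρ : H →* Module.End K V) {T : Subgroup H} (hT : IsPGroup t ↥T) :
    ∃ v : V, v ≠ 0 ∧ ∀ x ∈ T, ρ x v = v := by
  classical
  have := Fintype.ofFinite ↥T
  obtain ⟨v0, hv0⟩ := exists_ne (0 : V)
  let Φ : (↥T → ZMod t) →+ V :=
    { toFun := fun c => ∑ x, (ZMod.castHom dvd_rfl K (c x)) • ρ (x : H) v0
      map_zero' := by simp
      map_add' := fun c d => by simp [add_smul, Finset.sum_add_distrib] }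
  set M := Φ.range with hM
  have hv0M : v0 ∈ M := ⟨Pi.single 1 1, by
    show ∑ x, (ZMod.castHom dvd_rfl K ((Pi.single (1 : ↥T) (1 : ZMod t) : ↥T → ZMod t) x)) • ρ (x : H) v0 = v0
    rw [Finset.sum_eq_single (1 : ↥T)]
    · simp
    · intro b _ hb; simp [hb]
    · simp⟩
  have hinv : ∀ (y : ↥T) (m : V), m ∈ M → ρ (y : H) m ∈ M := by
    rintro y _ ⟨c, rfl⟩
    refine ⟨fun x => c (y⁻¹ * x), ?_⟩
    show ∑ x, (ZMod.castHom dvd_rfl K (c (y⁻¹ * x))) • ρ (x : H) v0 =
      ρ (y : H) (∑ x, (ZMod.castHom dvd_rfl K (c x)) • ρ (x : H) v0)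
    rw [map_sum]
    refine Fintype.sum_equiv (Equiv.mulLeft y⁻¹) _ _ fun x => ?_
    rw [map_smul, ← Module.End.mul_apply, ← map_mul]
    simp
  letI : MulAction ↥T ↥M :=
    { smul := fun y m => ⟨ρ (y : H) m, hinv y m m.2⟩
      one_smul := fun m => Subtype.ext (by
        show ρ ((1 : ↥T) : H) (m : V) = m
        simp)
      mul_smul := fun y z m => Subtype.ext (by
        show ρ ((y * z : ↥T) : H) (m : V) = ρ (y : H) (ρ (z : H) m)
        rw [Subgroup.coe_mul, map_mul]
        rfl) }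
  haveI : Finite ↥M := Finite.of_surjective Φ.rangeRestrict Φ.rangeRestrict_surjective
  have hdvd : t ∣ Nat.card ↥M := by
    haveI : Nontrivial ↥M := ⟨⟨⟨v0, hv0M⟩, 0, fun h => hv0 (congrArg Subtype.val h)⟩⟩
    have h0 : ∀ m : ↥M, t • m = 0 := fun m => Subtype.ext (by
      rw [AddSubgroup.coe_nsmul, ← Nat.cast_smul_eq_nsmul K, CharP.cast_eq_zero, zero_smul]
      rfl)
    obtain ⟨m, hm⟩ := exists_ne (0 : ↥M)
    rw [← addOrderOf_eq_prime (h0 m) hm]
    exact addOrderOf_dvd_natCard m
  obtain ⟨b, hb, hb0⟩ := hT.exists_fixed_point_of_prime_dvd_card_of_fixed_point (↥M) hdvd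
    (a := (0 : ↥M)) (fun y => Subtype.ext (map_zero _))
  refine ⟨b.1, fun h => hb0 (Subtype.ext h.symm), fun x hx => ?_⟩
  exact congrArg Subtype.val (hb ⟨x, hx⟩)

/-- Commutators with `a` are unipotent in every finite-dimensional module. -/
theorem isNilpotent_sub_one [Finite H] [IsAlgClosed K] (Y C T : Subgroup H) (a : H) (hCY : C ≤ Y)
    (hTY : T ≤ Y) (hfac : ∀ y ∈ Y, ∃ c ∈ C, ∃ τ ∈ T, y = c * τ) (hT : IsPGroup t ↥T)
    (haT : a ∈ normalizer (T : Set H)) (haC : ∀ c ∈ C, a * c = c * a)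
    (hgen : Y ⊔ zpowers a = ⊤) :
    ∀ (n : ℕ) (V : Type w) [AddCommGroup V] [Module K V] [FiniteDimensional K V],
      Module.finrank K V = n → ∀ (ρ : H →* Module.End K V),
        ∀ g ∈ Subgroup.closure {g | ∃ y ∈ Y, ⁅y, a⁆ = g}, IsNilpotent (ρ g - 1) := by
  intro n
  induction n using Nat.strong_induction_on with
  | _ n ih =>
    intro V _ _ _ hn ρ g hg
    rcases subsingleton_or_nontrivial V with hV | hV
    · exact ⟨1, LinearMap.ext fun v => Subsingleton.elim _ _⟩
    have hmul : ∀ (x y : H) (v : V), ρ (x * y) v = ρ x (ρ y v) := fun x y v => by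
      rw [map_mul]; rfl
    -- an eigenvector of `a` fixed by `T`
    let F : Submodule K V :=
      { carrier := {v | ∀ x ∈ T, ρ x v = v}
        zero_mem' := fun x _ => map_zero _
        add_mem' := fun hu hv x hx => by rw [map_add, hu x hx, hv x hx]
        smul_mem' := fun k v hv x hx => by rw [map_smul, hv x hx] }
    obtain ⟨v0, hv0, hv0F⟩ := exists_ne_zero_fixed ρ hT
    haveI : Nontrivial ↥F := ⟨⟨⟨v0, hv0F⟩, 0, fun h => hv0 (congrArg Subtype.val h)⟩⟩
    have haF : ∀ v ∈ F, ρ a v ∈ F := fun v hv x hx => by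
      have hx' : a⁻¹ * x * a ∈ T := by
        have h := (Subgroup.mem_normalizer_iff.1 (inv_mem haT) x).1 hx
        simpa using h
      rw [← hmul, show x * a = a * (a⁻¹ * x * a) by group, hmul, hv _ hx']
    obtain ⟨lam, hlam⟩ := Module.End.exists_eigenvalue ((ρ a).restrict haF)
    obtain ⟨⟨v, hvF⟩, hev, hvne⟩ := hlam.exists_hasEigenvector
    have hv : ρ a v = lam • v := congrArg Subtype.val (Module.End.mem_eigenspace_iff.1 hev)
    have hv' : v ≠ 0 := fun h => hvne (Subtype.ext h)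
    have hlam0 : lam ≠ 0 := fun h => hv' (by
      have h1 : ρ a⁻¹ (ρ a v) = v := by rw [← hmul, inv_mul_cancel, map_one]; rfl
      rw [← h1, hv, h, zero_smul, map_zero])
    -- the span of its `C`-orbit
    set U := Submodule.span K (Set.range fun c : ↥C => ρ (c : H) v) with hU
    have hCv : ∀ c ∈ C, ρ c v ∈ U := fun c hc => Submodule.subset_span ⟨⟨c, hc⟩, rfl⟩
    have hvU : v ∈ U := by simpa using hCv 1 (one_mem C)
    have hstab : ∀ x : H, (∀ c ∈ C, ρ x (ρ c v) ∈ U) → ∀ u ∈ U, ρ x u ∈ U := fun x hx u hu => by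
      refine (Submodule.span_le.2 ?_ : U ≤ U.comap (ρ x)) hu
      rintro _ ⟨c, rfl⟩
      exact hx c c.2
    have hscal : ∀ u ∈ U, ρ a u = lam • u := fun u hu => by
      induction hu using Submodule.span_induction with
      | mem w hw =>
        obtain ⟨c, rfl⟩ := hw
        show ρ a (ρ (c : H) v) = lam • ρ (c : H) v
        rw [← hmul, haC c c.2, hmul, hv, map_smul]
      | zero => simp
      | add x y _ _ hx hy => rw [map_add, hx, hy, smul_add]
      | smul k x _ hx => rw [map_smul, hx, smul_comm]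
    have hYU : ∀ y ∈ Y, ∀ u ∈ U, ρ y u ∈ U := fun y hy => hstab y fun c hc => by
      obtain ⟨c', hc', τ, hτ, he⟩ := hfac (y * c) (mul_mem hy (hCY hc))
      rw [← hmul, he, hmul, hvF τ hτ]
      exact hCv c' hc'
    let W : Subgroup H :=
      { carrier := {x | ∀ u ∈ U, ρ x u ∈ U ∧ ρ x⁻¹ u ∈ U}
        one_mem' := fun u hu => by simp [hu]
        mul_mem' := fun {x y} hx hy u hu => by
          refine ⟨?_, ?_⟩
          · rw [hmul]; exact (hx _ (hy u hu).1).1
          · rw [mul_inv_rev, hmul]; exact (hy _ (hx u hu).2).2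
        inv_mem' := fun {x} hx u hu => by simpa [inv_inv] using (hx u hu).symm }
    have haU : a ∈ W := fun u hu => ⟨by rw [hscal u hu]; exact U.smul_mem _ hu, by
      have h1 : ρ a⁻¹ u = lam⁻¹ • u := by
        have h2 : ρ a⁻¹ (ρ a u) = u := by rw [← hmul, inv_mul_cancel, map_one]; rfl
        rw [hscal u hu, map_smul] at h2
        exact (eq_inv_smul_iff₀ hlam0).2 h2
      rw [h1]
      exact U.smul_mem _ hu⟩
    have hWtop : ∀ x : H, ∀ u ∈ U, ρ x u ∈ U := fun x => by
      have h : (⊤ : Subgroup H) ≤ W := hgen ▸ sup_le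
        (fun y hy u hu => ⟨hYU y hy u hu, hYU _ (inv_mem hy) u hu⟩) (zpowers_le.2 haU)
      exact fun u hu => (h (mem_top x) u hu).1
    -- the commutators act trivially on `U`
    let N : Subgroup H :=
      { carrier := {x | ∀ u ∈ U, ρ x u = u}
        one_mem' := fun u _ => by simp
        mul_mem' := fun {x y} hx hy u hu => by rw [hmul, hy u hu, hx u hu]
        inv_mem' := fun {x} hx u hu => by
          conv_lhs => rw [← hx u hu]
          rw [← hmul, inv_mul_cancel, map_one]; rfl }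
    have hgN : g ∈ N := by
      refine (Subgroup.closure_le N).2 ?_ hg
      rintro _ ⟨y, hy, rfl⟩ u hu
      have e2 : ∀ w ∈ U, ρ a⁻¹ w = lam⁻¹ • w := fun w hw => by
        have h2 : ρ a⁻¹ (ρ a w) = w := by rw [← hmul, inv_mul_cancel, map_one]; rfl
        rw [hscal w hw, map_smul] at h2
        exact (eq_inv_smul_iff₀ hlam0).2 h2
      rw [commutatorElement_def, hmul, e2 u hu, map_smul, hmul, hmul,
        hscal _ (hYU _ (inv_mem hy) u hu), map_smul, ← hmul y y⁻¹, mul_inv_cancel, map_one,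
        smul_smul, inv_mul_cancel₀ hlam0, one_smul]
      rfl
    -- the quotient
    let ρ' : H →* Module.End K (V ⧸ U) :=
      { toFun := fun x => U.mapQ U (ρ x) (fun u hu => hWtop x u hu)
        map_one' := Submodule.linearMap_qext _ (LinearMap.ext fun w => by simp)
        map_mul' := fun x y => Submodule.linearMap_qext _ (LinearMap.ext fun w => by simp) }
    have hlt : Module.finrank K (V ⧸ U) < n := by
      rw [← hn, ← U.finrank_quotient_add_finrank]
      have : 0 < Module.finrank K ↥U :=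
        Module.finrank_pos_iff_exists_ne_zero.2 ⟨⟨v, hvU⟩, fun h => hv' (congrArg Subtype.val h)⟩
      omega
    obtain ⟨k, hk⟩ := ih _ hlt (V ⧸ U) rfl ρ' g hg
    refine ⟨k + 1, LinearMap.ext fun w => ?_⟩
    have hq : ∀ (j : ℕ) (w : V), U.mkQ (((ρ g - 1) ^ j) w) = ((ρ' g - 1) ^ j) (U.mkQ w) := by
      intro j
      induction j with
      | zero => intro w; simp
      | succ j ihj =>
        intro w
        rw [pow_succ', pow_succ', Module.End.mul_apply, Module.End.mul_apply, ← ihj]
        simp [ρ']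
    have hmem : ((ρ g - 1) ^ k) w ∈ U := by
      rw [← Submodule.Quotient.mk_eq_zero, ← Submodule.mkQ_apply, hq, hk]
      rfl
    rw [pow_succ', Module.End.mul_apply, LinearMap.sub_apply, Module.End.one_apply, hgN _ hmem,
      sub_self]
    rfl

end

/-- If the centralizer of `a` and an `a`-invariant `t`-subgroup cover `Y`, then the commutators `[y, a]`
generate a `t`-group. -/
theorem isPGroup_commutators {X : Type u} [Group X] [Finite X] {t : ℕ} [ht : Fact t.Prime]
    (Y C T : Subgroup X) (a : X) (hCY : C ≤ Y) (hTY : T ≤ Y)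
    (hfac : ∀ y ∈ Y, ∃ c ∈ C, ∃ τ ∈ T, y = c * τ) (hT : IsPGroup t ↥T)
    (haT : a ∈ normalizer (T : Set X)) (haC : ∀ c ∈ C, a * c = c * a) :
    IsPGroup t ↥(Subgroup.closure {g | ∃ y ∈ Y, ⁅y, a⁆ = g}) := by
  classical
  let K := AlgebraicClosure (ZMod t)
  haveI : CharP K t := charP_of_injective_algebraMap (algebraMap (ZMod t) K).injective t
  set H := Y ⊔ zpowers a with hH
  have hYH : Y ≤ H := le_sup_left
  have haH : a ∈ H := mem_sup_right (mem_zpowers a)
  let a' : ↥H := ⟨a, haH⟩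
  let ρ : ↥H →* Module.End K (↥H → K) :=
    { toFun := fun h => LinearMap.funLeft K K (fun x => x * h)
      map_one' := LinearMap.ext fun f => funext fun x => by simp [LinearMap.funLeft]
      map_mul' := fun h h' => LinearMap.ext fun f => funext fun x => by
        simp [LinearMap.funLeft, mul_assoc] }
  haveI : CharP (Module.End K (↥H → K)) t :=
    charP_of_injective_algebraMap (FaithfulSMul.algebraMap_injective K (Module.End K (↥H → K))) t
  intro g
  obtain ⟨g, hg⟩ := g
  have hgH : g ∈ H := by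
    refine (Subgroup.closure_le H).2 ?_ hg
    rintro _ ⟨y, hy, rfl⟩
    rw [commutatorElement_def]
    exact mul_mem (mul_mem (mul_mem (hYH hy) haH) (inv_mem (hYH hy))) (inv_mem haH)
  have hg' : (⟨g, hgH⟩ : ↥H) ∈ Subgroup.closure {g | ∃ y ∈ Y.subgroupOf H, ⁅y, a'⁆ = g} := by
    have h : g ∈ (Subgroup.closure {g | ∃ y ∈ Y.subgroupOf H, ⁅y, a'⁆ = g}).map H.subtype := by
      refine (Subgroup.closure_le _).2 ?_ hg
      rintro _ ⟨y, hy, rfl⟩
      exact ⟨⁅(⟨y, hYH hy⟩ : ↥H), a'⁆, Subgroup.subset_closure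
        ⟨(⟨y, hYH hy⟩ : ↥H), hy, rfl⟩, rfl⟩
    obtain ⟨z, hz, rfl⟩ := h
    exact hz
  have hgen : Y.subgroupOf H ⊔ zpowers a' = ⊤ := by
    refine map_injective H.subtype_injective ?_
    rw [Subgroup.map_sup, MonoidHom.map_zpowers, ← MonoidHom.range_eq_map, range_subtype,
      subgroupOf_map_subtype, inf_eq_left.2 hYH]
    rfl
  obtain ⟨k, hk⟩ := isNilpotent_sub_one (K := K) (t := t) (Y.subgroupOf H) (C.subgroupOf H) (T.subgroupOf H) a'
    (fun c hc => hCY hc) (fun c hc => hTY hc)
    (fun y hy => by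
      obtain ⟨c, hc, τ, hτ, he⟩ := hfac y hy
      exact ⟨⟨c, hYH (hCY hc)⟩, hc, ⟨τ, hYH (hTY hτ)⟩, hτ, Subtype.ext he⟩)
    (hT.comap_of_injective H.subtype H.subtype_injective)
    (by
      rw [Subgroup.mem_normalizer_iff]
      intro x
      exact Subgroup.mem_normalizer_iff.1 haT (x : X))
    (fun c hc => Subtype.ext (haC c hc)) hgen _ (↥H → K) rfl ρ _ hg'
  refine ⟨k, Subtype.ext ?_⟩
  have hle : k ≤ t ^ k := (k.lt_pow_self ht.out.one_lt).le
  have h1 : ρ (⟨g, hgH⟩ ^ (t ^ k)) = 1 := by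
    rw [map_pow, ← sub_eq_zero]
    have := sub_pow_char_pow_of_commute (p := t) (n := k) (Commute.one_right (ρ ⟨g, hgH⟩))
    rw [one_pow] at this
    rw [← this]
    exact pow_eq_zero_of_le hle hk
  have h2 := congrFun (LinearMap.congr_fun h1 (Pi.single 1 1)) 1
  simp [ρ, LinearMap.funLeft, Pi.single_apply] at h2
  simpa using h2

end Cfsg.Lib.Local.Isolated
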