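import Cfsg.Agent.Lib.Core.Layer
import Cfsg.Agent.Lib.Core.Cores
import Cfsg.Agent.Lib.Core.Fitting
import Cfsg.Agent.Lib.Coprime.Action
import Cfsg.Agent.Lib.Local.Isolated.Complement
import Cfsg.Agent.Lib.Local.Isolated.PrimePowerIndex

/-!
The structure of the normal closure `Y` of an isolated minimal configuration, in a group with trivial
`p`-core. `W` plays the part of `O^p(P)`, `L` of the subgroup generated by the other overgroups of the
Sylow subgroup `S`, and `A` of the nontrivial `p`-core of `L`.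
-/

set_option autoImplicit false

namespace Cfsg.Lib.Local.Isolated

open Subgroup
open scoped commutatorElement

variable {Q : Type*} [Group Q]

theorem normal_le_normalizer (N : Subgroup Q) [hN : N.Normal] (K : Subgroup Q) :
    K ≤ normalizer (N : Set Q) :=
  (normalizer_eq_top_iff.2 hN).ge.trans' le_top

/-- The configuration in the group modulo its `p`-core. -/
structure Setup (p : ℕ) (S W L Y A : Subgroup Q) : Prop where
  hSp : IsPGroup p ↥S
  hSL : S ≤ L
  hSW : S ≤ normalizer (W : Set Q)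
  hA : IsPGroup p ↥A
  hAS : A ≤ S
  hLA : L ≤ normalizer (A : Set Q)
  hA1 : A ≠ ⊥
  hO : Cfsg.pCore p Q = ⊥
  hY : Y = normalClosure (W : Set Q)
  hYL : Y ⊔ L = ⊤
  hWL : ¬ W ≤ L
  hover : ∀ N : Subgroup Q, S ≤ normalizer (N : Set Q) → N ≤ L ∨ W ≤ N

namespace Setup

variable [Finite Q] {p : ℕ} [hp : Fact p.Prime] {S W L Y A : Subgroup Q}

omit [Finite Q] hp in
theorem normal (h : Setup p S W L Y A) : Y.Normal := h.hY ▸ normalClosure_normal

omit [Finite Q] hp in
theorem W_le (h : Setup p S W L Y A) : W ≤ Y := h.hY ▸ le_normalClosure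

omit [Finite Q] hp in
theorem Y_not_le (h : Setup p S W L Y A) : ¬ Y ≤ L := fun hle => h.hWL (h.W_le.trans hle)

omit [Finite Q] hp in
theorem dich (h : Setup p S W L Y A) (N : Subgroup Q) [hN : N.Normal] : N ≤ L ∨ Y ≤ N := by
  rcases h.hover N (by rw [normalizer_eq_top_iff.2 hN]; exact le_top) with h1 | h1
  · exact Or.inl h1
  · exact Or.inr (h.hY ▸ normalClosure_le_normal h1)

omit [Finite Q] hp in
theorem A_le (h : Setup p S W L Y A) : A ≤ L := h.hAS.trans h.hSL

omit hp in
theorem eq_bot_of_normal_in (h : Setup p S W L Y A) {M : Subgroup Q} [M.Normal] {B : Subgroup Q}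
    (hBM : B ≤ M) (hMB : M ≤ normalizer (B : Set Q)) (hB : IsPGroup p ↥B) : B = ⊥ := by
  have hs : B.IsSubnormal := Cfsg.Lib.Core.isSubnormal_of_normal_subgroupOf hBM
    (Subgroup.Normal.isSubnormal inferInstance) ((normal_subgroupOf_iff_le_normalizer hBM).2 hMB)
  exact le_bot_iff.1 (h.hO ▸ Cfsg.Lib.Core.le_pCore_of_isSubnormal hs hB)

omit hp in
/-- A normal subgroup inside `L` centralizes both `A` and `Y`. -/
theorem cent (h : Setup p S W L Y A) (M : Subgroup Q) [hM : M.Normal] (hML : M ≤ L) :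
    ⁅M, A⁆ = ⊥ ∧ ⁅M, Y⁆ = ⊥ := by
  have hMA : ⁅M, A⁆ = ⊥ := by
    have h1 : ⁅M, A⁆ ≤ M ⊓ A := by
      refine commutator_le.2 fun m hm a ha => ⟨?_, ?_⟩
      · rw [commutatorElement_def, mul_assoc m a, mul_assoc m]
        exact mul_mem hm (hM.conj_mem _ (inv_mem hm) a)
      · change ⁅m, a⁆ ∈ A
        rw [commutatorElement_def]
        exact mul_mem ((mem_normalizer_iff.1 (h.hLA (hML hm)) a).1 ha) (inv_mem ha)
    have h2 : M ⊓ A = ⊥ := h.eq_bot_of_normal_in (M := M) inf_le_left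
      ((le_inf le_normalizer (hML.trans h.hLA)).trans inf_normalizer_le_normalizer_inf)
      (h.hA.to_le inf_le_right)
    exact le_bot_iff.1 (h2 ▸ h1)
  refine ⟨hMA, ?_⟩
  haveI : (centralizer (M : Set Q)).Normal := inferInstance
  have hAC : A ≤ centralizer (M : Set Q) :=
    commutator_eq_bot_iff_le_centralizer.1 ((commutator_comm A M).trans hMA)
  rcases h.dich (centralizer (M : Set Q)) with h1 | h1
  · exact absurd (h.eq_bot_of_normal_in hAC (h1.trans h.hLA) h.hA) h.hA1
  · rw [commutator_comm]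
    exact commutator_eq_bot_iff_le_centralizer.2 h1

omit hp in
theorem le_generalizedFitting (h : Setup p S W L Y A) : Y ≤ Cfsg.generalizedFittingSubgroup Q := by
  haveI : (Cfsg.generalizedFittingSubgroup Q).Normal := inferInstance
  rcases h.dich (Cfsg.generalizedFittingSubgroup Q) with h1 | h1
  · refine absurd ?_ h.Y_not_le
    have h2 : Y ≤ centralizer (Cfsg.generalizedFittingSubgroup Q : Set Q) :=
      commutator_eq_bot_iff_le_centralizer.1 ((commutator_comm _ _).trans (h.cent _ h1).2)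
    exact (h2.trans Cfsg.Lib.Core.centralizer_generalizedFitting_le).trans h1
  · exact h1

omit hp in
theorem W_ne_bot (h : Setup p S W L Y A) : W ≠ ⊥ := fun h0 => h.hWL (h0 ▸ bot_le)

/-- A nilpotent `Y` is a `t`-group. -/
theorem exists_prime (h : Setup p S W L Y A) (hnil : Group.IsNilpotent ↥Y) :
    ∃ t : ℕ, t.Prime ∧ t ≠ p ∧ IsPGroup t ↥Y := by
  classical
  haveI := h.normal
  haveI := hnil
  obtain ⟨t, ht, T, hT⟩ : ∃ (t : ℕ) (_ : t.Prime) (T : Sylow t ↥Y),
      ¬ (T : Subgroup ↥Y).map Y.subtype ≤ L := by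
    by_contra hcon
    push Not at hcon
    refine h.Y_not_le (relIndex_eq_one.1 ?_)
    by_contra h1
    obtain ⟨r, hr, hd⟩ := Nat.exists_prime_and_dvd h1
    haveI := Fact.mk hr
    obtain ⟨T⟩ : Nonempty (Sylow r ↥Y) := inferInstance
    exact T.not_dvd_index (hd.trans (index_dvd_of_le (H := (T : Subgroup ↥Y)) (K := L.subgroupOf Y)
      (map_le_iff_le_comap.1 (hcon r hr T))))
  haveI := Fact.mk ht
  haveI : (T : Subgroup ↥Y).Normal := inferInstance
  haveI : (T : Subgroup ↥Y).Characteristic := T.characteristic_of_normal inferInstance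
  haveI : ((T : Subgroup ↥Y).map Y.subtype).Normal := Cfsg.Lib.Core.normal_map_char_of_normal _
  have hYT : Y ≤ (T : Subgroup ↥Y).map Y.subtype := (h.dich _).resolve_left hT
  have hYt : IsPGroup t ↥Y := (T.isPGroup'.map Y.subtype).to_le hYT
  refine ⟨t, ht, fun he => ?_, hYt⟩
  subst he
  exact h.Y_not_le ((Cfsg.Lib.Core.le_pCore hYt).trans (h.hO ▸ bot_le))

omit hp in
theorem class_two (h : Setup p S W L Y A) (hnil : Group.IsNilpotent ↥Y) :
    ⁅Y, Y⁆ ≤ L ∧ ⁅⁅Y, Y⁆, Y⁆ = ⊥ := by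
  haveI := h.normal
  haveI : ⁅Y, Y⁆.Normal := commutator_normal Y Y
  rcases h.dich ⁅Y, Y⁆ with h1 | h1
  · exact ⟨h1, (h.cent _ h1).2⟩
  · exfalso
    have h2 : ⁅Y, Y⁆ = Y := le_antisymm (commutator_le_self Y) h1
    haveI : Nontrivial ↥Y := (nontrivial_iff_ne_bot _).2 fun h0 => h.Y_not_le (h0 ▸ bot_le)
    haveI : Group.IsPerfect ↥Y := isPerfect_iff.2 h2
    haveI := hnil
    exact Group.IsPerfect.not_isSolvable ↥Y IsNilpotent.to_isSolvable

/-- A nilpotent `Y` equals `W`. -/
theorem eq_of_nilpotent (h : Setup p S W L Y A) (hnil : Group.IsNilpotent ↥Y) : W = Y := by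
  classical
  haveI := h.normal
  obtain ⟨hY'L, -⟩ := h.class_two hnil
  obtain ⟨t, ht, htp, hYt⟩ := h.exists_prime hnil
  haveI := Fact.mk ht
  have hLY : L ≤ normalizer (Y : Set Q) := Cfsg.Lib.Local.Isolated.normal_le_normalizer Y L
  have hAY : A ≤ normalizer (Y : Set Q) := Cfsg.Lib.Local.Isolated.normal_le_normalizer Y A
  have hcop : (Nat.card A).Coprime (Nat.card Y) := IsPGroup.coprime_card_of_ne p t htp.symm A Y h.hA hYt
  have hsol : Group.IsSolvable ↥A ∨ Group.IsSolvable ↥Y := Or.inl (by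
    haveI := h.hA.isNilpotent
    exact IsNilpotent.to_isSolvable)
  -- `[Y, A] = Y`
  haveI : ⁅Y, A⁆.Normal := by
    rw [← normalizer_eq_top_iff, eq_top_iff, ← h.hYL]
    refine sup_le (normalizer_commutator_ge_left Y A) ?_
    exact fun l hl => Cfsg.Lib.Core.mem_normalizer_iff_map_conj.2 (by
      rw [map_commutator, Cfsg.Lib.Core.map_conj_eq_of_mem_normalizer (hLY hl),
        Cfsg.Lib.Core.map_conj_eq_of_mem_normalizer (h.hLA hl)])
  have hYA : ⁅Y, A⁆ = Y := by
    refine le_antisymm (Cfsg.Lib.Coprime.commutator_le_of_le_normalizer hAY) ?_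
    rcases h.dich ⁅Y, A⁆ with h1 | h1
    · exfalso
      have h2 : ⁅Y, A⁆ = ⊥ := Cfsg.Lib.Coprime.commutator_eq_bot_of_commutator_commutator_eq_bot
        hAY hcop hsol (h.cent _ h1).1
      have hAn : A.Normal := by
        rw [← normalizer_eq_top_iff, eq_top_iff, ← h.hYL]
        exact sup_le ((commutator_eq_bot_iff_le_centralizer.1 h2).trans (centralizer_le_normalizer _))
          h.hLA
      haveI := hAn
      exact h.hA1 (le_bot_iff.1 (h.hO ▸ Cfsg.Lib.Core.le_pCore h.hA))
    · exact h1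
  -- the part inside `L`
  set Z := Y ⊓ L with hZ
  haveI hZn : Z.Normal := by
    rw [← normalizer_eq_top_iff, eq_top_iff, ← h.hYL]
    refine sup_le (fun y hy => ?_) ((le_inf hLY le_normalizer).trans
      inf_normalizer_le_normalizer_inf)
    have hc : ∀ a b : Q, a ∈ Y → b ∈ Z → a * b * a⁻¹ ∈ Z := fun a b ha hb => by
      have : a * b * a⁻¹ = ⁅a, b⁆ * b := by rw [commutatorElement_def]; group
      rw [this]
      exact mul_mem ⟨commutator_le_self Y (commutator_mem_commutator ha hb.1),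
        hY'L (commutator_mem_commutator ha hb.1)⟩ hb
    rw [mem_normalizer_iff]
    refine fun z => ⟨hc y z hy, fun hz => ?_⟩
    have := hc y⁻¹ _ (inv_mem hy) hz
    simpa [mul_assoc] using this
  obtain ⟨hZA, hZY⟩ := h.cent Z inf_le_right
  -- it suffices to cover `Y` by `W` and the part inside `L`
  suffices hsup : Y ≤ W ⊔ Z by
    refine le_antisymm h.W_le ?_
    conv_lhs => rw [← hYA]
    refine commutator_le.2 fun y hy a ha => ?_
    obtain ⟨w, hw, z, hz, rfl⟩ := mem_sup_of_normal_right.1 (hsup hy)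
    have hza : a * z = z * a := (Cfsg.Lib.Core.commutator_eq_bot_iff_forall.1 hZA z hz a ha).symm
    have : ⁅w * z, a⁆ = ⁅w, a⁆ := by
      simp only [commutatorElement_def, mul_inv_rev]
      calc w * z * a * (z⁻¹ * w⁻¹) * a⁻¹ = w * (z * a) * z⁻¹ * w⁻¹ * a⁻¹ := by group
        _ = w * (a * z) * z⁻¹ * w⁻¹ * a⁻¹ := by rw [hza]
        _ = w * a * w⁻¹ * a⁻¹ := by group
    rw [this, commutatorElement_def, mul_assoc w a, mul_assoc w]
    exact mul_mem hw ((mem_normalizer_iff.1 (h.hSW (h.hAS ha)) _).1 (inv_mem hw))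
  -- modulo the part inside `L`
  set π := QuotientGroup.mk' Z with hπ
  have hπs : Function.Surjective π := QuotientGroup.mk'_surjective Z
  have hπ1 : ∀ {x : Q}, π x = 1 ↔ x ∈ Z := fun {x} => QuotientGroup.eq_one_iff x
  set V := Y.map π with hV
  haveI hVc : IsMulCommutative ↥V := ⟨⟨fun ⟨a, ha⟩ ⟨b, hb⟩ => Subtype.ext (by
    obtain ⟨y, hy, rfl⟩ := ha
    obtain ⟨y', hy', rfl⟩ := hb
    show π y * π y' = π y' * π y
    refine commutatorElement_eq_one_iff_mul_comm.1 ?_
    rw [← map_commutatorElement, hπ1]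
    exact ⟨commutator_le_self Y (commutator_mem_commutator hy hy'),
      hY'L (commutator_mem_commutator hy hy')⟩)⟩⟩
  have hVe : Cfsg.IsElementaryAbelian t V := by
    haveI hVn : V.Normal := Normal.map inferInstance π hπs
    let Vt : Subgroup (Q ⧸ Z) :=
      { carrier := {x | ∃ v ∈ V, v ^ t = x}
        one_mem' := ⟨1, one_mem _, one_pow t⟩
        mul_mem' := by
          rintro _ _ ⟨v, hv, rfl⟩ ⟨w, hw, rfl⟩
          exact ⟨v * w, mul_mem hv hw, (show Commute v w from setLike_mul_comm hv hw).mul_pow t⟩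
        inv_mem' := by
          rintro _ ⟨v, hv, rfl⟩
          exact ⟨v⁻¹, inv_mem hv, inv_pow v t⟩ }
    haveI : Vt.Normal := ⟨by
      rintro _ ⟨v, hv, rfl⟩ g
      exact ⟨g * v * g⁻¹, hVn.conj_mem v hv g, conj_pow⟩⟩
    refine ⟨hVc, fun v hv => ?_⟩
    rcases h.dich (Y ⊓ Vt.comap π) with h1 | h1
    · obtain ⟨y, hy, rfl⟩ := hv
      rw [← map_pow, hπ1]
      have hyt : y ^ t ∈ Y := pow_mem hy t
      exact ⟨hyt, h1 ⟨hyt, ⟨π y, mem_map_of_mem π hy, (map_pow π y t).symm⟩⟩⟩
    · exfalso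
      let f : ↥V → ↥V := fun v => ⟨(v : Q ⧸ Z) ^ t, pow_mem v.2 t⟩
      have hsurj : Function.Surjective f := by
        rintro ⟨u, hu⟩
        obtain ⟨y, hy, rfl⟩ := hu
        obtain ⟨w, hw, he⟩ := (h1 hy).2
        exact ⟨⟨w, hw⟩, Subtype.ext he⟩
      have hinj := Finite.injective_iff_surjective.2 hsurj
      have hVt : IsPGroup t ↥V := hYt.map π
      have htriv : ∀ (k : ℕ) (u : ↥V), u ^ t ^ k = 1 → u = 1 := by
        intro k
        induction k with
        | zero => intro u hu; simpa using hu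
        | succ k ih =>
          intro u hu
          refine ih u ?_
          apply hinj
          show (⟨_, _⟩ : ↥V) = ⟨_, _⟩
          refine Subtype.ext ?_
          have hu' := congrArg Subtype.val hu
          rw [pow_succ, pow_mul] at hu'
          simpa using hu'
      refine h.Y_not_le fun y hy => ?_
      obtain ⟨k, hk⟩ := hVt ⟨π y, mem_map_of_mem π hy⟩
      exact (hπ1.1 (congrArg Subtype.val (htriv k _ hk))).2
  obtain ⟨U, hUV, hSU, hsupU, hinfU⟩ := exists_invariant_compl (Ne.symm htp) (h.hSp.map π) hVe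
    (map_mono h.W_le : W.map π ≤ V)
    ((map_mono (le_top : S ≤ ⊤)).trans (by
      haveI : V.Normal := Normal.map inferInstance π hπs
      rw [normalizer_eq_top_iff.2 (inferInstance : V.Normal)]; exact le_top))
    ((map_mono h.hSW).trans (le_normalizer_map π))
  set N := U.comap π ⊓ Y with hN
  have hSN : S ≤ normalizer (N : Set Q) :=
    (le_inf ((map_le_iff_le_comap.1 hSU).trans (le_normalizer_comap π))
      (Cfsg.Lib.Local.Isolated.normal_le_normalizer Y S)).trans inf_normalizer_le_normalizer_inf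
  rcases h.hover N hSN with h1 | h1
  · intro y hy
    have h2 : π y ∈ W.map π ⊔ U := hsupU.ge (mem_map_of_mem π hy)
    have hU0 : U = ⊥ := eq_bot_iff.2 fun u hu => by
      obtain ⟨y', hy', rfl⟩ := hUV hu
      exact mem_bot.2 (hπ1.2 ⟨hy', h1 ⟨hu, hy'⟩⟩)
    rw [hU0, sup_bot_eq] at h2
    obtain ⟨w, hw, he⟩ := h2
    have hz : w⁻¹ * y ∈ Z := hπ1.1 (by rw [map_mul, map_inv, he, inv_mul_cancel])
    simpa using mul_mem_sup hw hz
  · exfalso
    refine h.hWL fun w hw => (hπ1.1 (mem_bot.1 (hinfU ▸ ?_))).2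
    exact ⟨mem_map_of_mem π hw, (h1 hw).1⟩

end Setup

end Cfsg.Lib.Local.Isolated
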