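import Cfsg.Agent.Lib.Local.Isolated.Abstract

/-!
The non-nilpotent case: `Y` is a product of components permuted transitively by `S`, and `p` divides its
order.
-/

set_option autoImplicit false

namespace Cfsg.Lib.Local.Isolated

open Subgroup
open scoped commutatorElement

variable {Q : Type*} [Group Q]

/-- Conjugation by a member of a family of conjugates permutes them. -/
theorem le_normalizer_orbit (S A : Subgroup Q) :
    S ≤ normalizer (((⨆ s : ↥S, A.map (MulAut.conj (s : Q)).toMonoidHom) : Subgroup Q) : Set Q) := by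
  intro t ht
  rw [Cfsg.Lib.Core.mem_normalizer_iff_map_conj, Subgroup.map_iSup]
  refine (Equiv.mulLeft (⟨t, ht⟩ : ↥S)).iSup_congr fun s => ?_
  rw [Subgroup.map_map]
  congr 1
  ext z
  simp [mul_assoc]

namespace Setup

variable [Finite Q] {p : ℕ} [hp : Fact p.Prime] {S W L Y A : Subgroup Q}

omit hp in
theorem commutator_eq (h : Setup p S W L Y A) (hnil : ¬ Group.IsNilpotent ↥Y) : ⁅Y, Y⁆ = Y := by
  haveI := h.normal
  haveI : ⁅Y, Y⁆.Normal := commutator_normal Y Y
  rcases h.dich ⁅Y, Y⁆ with h1 | h1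
  · refine absurd ?_ hnil
    rw [Subgroup.nilpotent_iff_lowerCentralSeries]
    refine ⟨2, map_injective Y.subtype_injective ?_⟩
    rw [Subgroup.map_bot, ← (h.cent _ h1).2]
    simp [Subgroup.lowerCentralSeries_succ, map_commutator, ← MonoidHom.range_eq_map]
  · exact le_antisymm (commutator_le_self Y) h1

omit hp in
theorem le_layer (h : Setup p S W L Y A) (hnil : ¬ Group.IsNilpotent ↥Y) : Y ≤ Cfsg.layer Q := by
  haveI := h.normal
  rcases h.dich (Cfsg.fittingSubgroup Q) with h1 | h1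
  · rcases h.dich (Cfsg.layer Q) with h2 | h2
    · exact absurd (h.le_generalizedFitting.trans (sup_le h2 h1)) h.Y_not_le
    · exact h2
  · refine absurd ?_ hnil
    haveI := Cfsg.Lib.Core.fittingSubgroup_isNilpotent Q
    exact nilpotent_of_mulEquiv (Subgroup.subgroupOfEquivOfLe h1)

omit hp in
theorem eq_sSup_components (h : Setup p S W L Y A) (hnil : ¬ Group.IsNilpotent ↥Y) :
    Y = sSup {K : Subgroup Q | Cfsg.IsComponent K ∧ K ≤ Y} := by
  haveI := h.normal
  set E1 := sSup {K : Subgroup Q | Cfsg.IsComponent K ∧ K ≤ Y} with hE1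
  have hE1Y : E1 ≤ Y := sSup_le fun K hK => hK.2
  set E2 := centralizer (Y : Set Q)
  have hEle : Cfsg.layer Q ≤ E1 ⊔ E2 := sSup_le fun K hK => by
    rcases Cfsg.Lib.Core.component_le_or_commute hK (Subgroup.Normal.isSubnormal (H := Y) inferInstance)
      with h1 | h1
    · exact (le_sSup ⟨hK, h1⟩ : K ≤ E1).trans le_sup_left
    · exact (commutator_eq_bot_iff_le_centralizer.1 h1).trans le_sup_right
  have hE12 : ⁅E1, E2⁆ = ⊥ := le_bot_iff.1 ((commutator_mono hE1Y le_rfl).trans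
    ((commutator_comm _ _).trans (commutator_eq_bot_iff_le_centralizer.2 le_rfl)).le)
  have hdec : ∀ y ∈ Y, ∃ e ∈ E1, ∃ c ∈ E2, y = e * c := fun y hy => by
    obtain ⟨e, he, c, hc, rfl⟩ := (Cfsg.Lib.Core.mem_sup_of_commute hE12).1
      (hEle (h.le_layer hnil hy))
    exact ⟨e, he, c, hc, rfl⟩
  refine le_antisymm ?_ hE1Y
  rw [← h.commutator_eq hnil]
  refine commutator_le.2 fun x hx y hy => ?_
  obtain ⟨e, he, c, hc, rfl⟩ := hdec x hx
  obtain ⟨e', he', c', hc', rfl⟩ := hdec y hy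
  have hcY : ∀ z ∈ Y, z * c = c * z := fun z hz => mem_centralizer_iff.1 hc z hz
  have hcY' : ∀ z ∈ Y, z * c' = c' * z := fun z hz => mem_centralizer_iff.1 hc' z hz
  have h1 : ⁅e * c, e' * c'⁆ = ⁅e, e' * c'⁆ := by
    simp only [commutatorElement_def]
    calc e * c * (e' * c') * (e * c)⁻¹ * (e' * c')⁻¹
        = e * (c * (e' * c')) * c⁻¹ * e⁻¹ * (e' * c')⁻¹ := by group
      _ = e * ((e' * c') * c) * c⁻¹ * e⁻¹ * (e' * c')⁻¹ := by rw [hcY _ hy]
      _ = e * (e' * c') * e⁻¹ * (e' * c')⁻¹ := by group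
  have h2 : ⁅e, e' * c'⁆ = ⁅e, e'⁆ := by
    simp only [commutatorElement_def]
    calc e * (e' * c') * e⁻¹ * (e' * c')⁻¹ = e * e' * (c' * e⁻¹) * (c'⁻¹ * e'⁻¹) := by group
      _ = e * e' * (e⁻¹ * c') * (c'⁻¹ * e'⁻¹) := by rw [hcY' _ (hE1Y (inv_mem he))]
      _ = e * e' * e⁻¹ * e'⁻¹ := by group
  rw [h1, h2, commutatorElement_def]
  exact mul_mem (mul_mem (mul_mem he he') (inv_mem he)) (inv_mem he')

omit hp in
theorem layer_eq_top (h : Setup p S W L Y A) (hnil : ¬ Group.IsNilpotent ↥Y) :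
    Cfsg.layer ↥Y = ⊤ := by
  haveI := h.normal
  refine map_injective Y.subtype_injective (le_antisymm (map_mono le_top) ?_)
  rw [← MonoidHom.range_eq_map, range_subtype]
  conv_lhs => rw [h.eq_sSup_components hnil]
  refine sSup_le fun K hK => ?_
  refine le_of_eq_of_le (?_ : K = (K.subgroupOf Y).map Y.subtype) (map_mono
    (Cfsg.Lib.Core.le_layer (Cfsg.Lib.Core.IsComponent.subgroupOf hK.1 hK.2)))
  rw [subgroupOf_map_subtype, inf_eq_left.2 hK.2]

omit hp in
/-- No component inside `Y` lies in `L`. -/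
theorem component_not_le (h : Setup p S W L Y A) {K : Subgroup Q} (hK : Cfsg.IsComponent K)
    (hKY : K ≤ Y) : ¬ K ≤ L := by
  intro hKL
  haveI := h.normal
  set M := sSup {K : Subgroup Q | Cfsg.IsComponent K ∧ K ≤ Y ∧ K ≤ L} with hM
  haveI hMn : M.Normal := by
    rw [← normalizer_eq_top_iff, eq_top_iff]
    intro g _
    obtain ⟨y, hy, l, hl, rfl⟩ := mem_sup_of_normal_left.1 (h.hYL ▸ mem_top g : g ∈ Y ⊔ L)
    refine mul_mem ?_ ?_
    · by_cases hnil : Group.IsNilpotent ↥Y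
      · haveI := hnil
        haveI : Group.IsSolvable ↥Y := IsNilpotent.to_isSolvable
        exact absurd (Group.isSolvable_of_isSolvable_injective (Subgroup.inclusion_injective hKY))
          (Cfsg.Lib.Core.IsComponent.not_solvable hK)
      · rw [h.eq_sSup_components hnil] at hy
        refine (sSup_le fun X hX => ?_ : _ ≤ normalizer (M : Set Q)) hy
        refine Cfsg.Lib.Core.sSup_components_le_normalizer ?_
        exact fun L' hL' => Cfsg.Lib.Core.component_le_normalizer hX.1 hL'.1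
    · rw [Cfsg.Lib.Core.mem_normalizer_iff_map_conj]
      have hle : ∀ l ∈ L, M.map (MulAut.conj l).toMonoidHom ≤ M := fun l hl => by
        rw [hM, sSup_eq_iSup, Subgroup.map_iSup]
        refine iSup_le fun X => ?_
        rw [Subgroup.map_iSup]
        refine iSup_le fun hX => ?_
        rw [← sSup_eq_iSup]
        refine le_sSup ⟨Cfsg.Lib.Core.IsComponent.map_conj hX.1 l, ?_, ?_⟩
        · exact (map_mono hX.2.1).trans (Cfsg.Lib.Core.normal_iff_map_conj.1 inferInstance l).le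
        · exact (map_mono hX.2.2).trans (Cfsg.Lib.Core.map_conj_eq_of_mem_normalizer
            (le_normalizer hl)).le
      refine le_antisymm (hle l hl) fun x hx => ?_
      exact ⟨l⁻¹ * x * l, by simpa using hle l⁻¹ (inv_mem hl) ⟨x, hx, rfl⟩, by simp [mul_assoc]⟩
  have h1 := (h.cent M (sSup_le fun X hX => hX.2.2)).2
  have h2 : K ≤ M := le_sSup ⟨hK, hKY, hKL⟩
  refine Cfsg.Lib.Core.IsComponent.ne_bot hK ?_
  rw [← Cfsg.Lib.Core.IsComponent.commutator_eq hK]
  exact le_bot_iff.1 ((commutator_mono h2 hKY).trans h1.le)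

omit hp in
theorem W_le_orbit (h : Setup p S W L Y A) {K : Subgroup Q} (hK : Cfsg.IsComponent K)
    (hKY : K ≤ Y) : W ≤ ⨆ s : ↥S, K.map (MulAut.conj (s : Q)).toMonoidHom := by
  refine (h.hover _ (le_normalizer_orbit S K)).resolve_left fun hle => h.component_not_le hK hKY ?_
  refine le_trans ?_ ((le_iSup (fun s : ↥S => K.map (MulAut.conj (s : Q)).toMonoidHom) 1).trans hle)
  intro x hx
  exact ⟨x, hx, by simp⟩

omit hp in
/-- `S` permutes the components inside `Y` transitively. -/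
theorem transitive (h : Setup p S W L Y A) (hnil : ¬ Group.IsNilpotent ↥Y) {K₁ K₂ : Subgroup Q}
    (h₁ : Cfsg.IsComponent K₁) (h₁Y : K₁ ≤ Y) (h₂ : Cfsg.IsComponent K₂) (h₂Y : K₂ ≤ Y) :
    ∃ s ∈ S, K₂ = K₁.map (MulAut.conj s).toMonoidHom := by
  haveI := h.normal
  by_contra hcon
  push Not at hcon
  have hsep : ∀ K : Subgroup Q, (∀ s ∈ S, K ≠ K₁.map (MulAut.conj s).toMonoidHom) ∨
      (∀ s ∈ S, K ≠ K₂.map (MulAut.conj s).toMonoidHom) := by
    intro K
    by_contra! hK
    obtain ⟨⟨s, hs, rfl⟩, t, ht, he⟩ := hK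
    refine hcon (t⁻¹ * s) (mul_mem (inv_mem ht) hs) ?_
    rw [Cfsg.Lib.Core.map_conj_mul, he, ← Cfsg.Lib.Core.map_conj_mul, inv_mul_cancel]
    ext x; simp
  have hWc : W ≤ centralizer (Y : Set Q) := by
    rw [le_centralizer_iff]
    conv_lhs => rw [h.eq_sSup_components hnil]
    refine sSup_le fun K hK => le_centralizer_iff.1 ?_
    have key : ∀ {K' : Subgroup Q}, Cfsg.IsComponent K' → K' ≤ Y →
        (∀ s ∈ S, K ≠ K'.map (MulAut.conj s).toMonoidHom) → W ≤ centralizer (K : Set Q) :=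
      fun {K'} hK' hK'Y hne => (h.W_le_orbit hK' hK'Y).trans (iSup_le fun s =>
        commutator_eq_bot_iff_le_centralizer.1 (Cfsg.Lib.Core.component_commute
          (Cfsg.Lib.Core.IsComponent.map_conj hK' (s : Q)) hK.1 (hne s s.2).symm))
    rcases hsep K with h1 | h1
    · exact key h₁ h₁Y h1
    · exact key h₂ h₂Y h1
  haveI : (centralizer (Y : Set Q)).Normal := inferInstance
  have hYc : Y ≤ centralizer (Y : Set Q) := by
    conv_lhs => rw [h.hY]
    exact normalClosure_le_normal hWc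
  apply h.Y_not_le
  rw [← h.commutator_eq hnil, commutator_eq_bot_iff_le_centralizer.2 hYc]
  exact bot_le

/-- In the non-nilpotent case `p` divides the order of `Y`. -/
theorem dvd_card (h : Setup p S W L Y A) (hnil : ¬ Group.IsNilpotent ↥Y) : p ∣ Nat.card ↥Y := by
  classical
  by_contra hpd
  haveI := h.normal
  have hLY : L ≤ normalizer (Y : Set Q) := normal_le_normalizer Y L
  have hSY : S ≤ normalizer (Y : Set Q) := normal_le_normalizer Y S
  have hcop : ∀ {B : Subgroup Q}, IsPGroup p ↥B → (Nat.card B).Coprime (Nat.card Y) := fun {B} hB => by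
    obtain ⟨k, hk⟩ := hB.exists_card_eq
    rw [hk]
    exact Nat.Coprime.pow_left _ (hp.out.coprime_iff_not_dvd.2 hpd)
  haveI := h.hSp.isNilpotent
  -- invariant Sylow subgroups
  have hsyl : ∀ r : ℕ, r.Prime → ∃ P : Subgroup Q, P ≤ Y ∧ IsPGroup r ↥P ∧
      S ≤ normalizer (P : Set Q) ∧ ¬ r ∣ P.relIndex Y := fun r hr => by
    haveI := Fact.mk hr
    obtain ⟨P, hP⟩ := Cfsg.Lib.Coprime.exists_invariant_sylow (A := S) (G := Y) hSY (hcop h.hSp)
      (Or.inl IsNilpotent.to_isSolvable) r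
    refine ⟨_, map_subtype_le _, P.isPGroup'.map Y.subtype, hP, ?_⟩
    rw [relIndex, subgroupOf, comap_map_eq_self_of_injective Y.subtype_injective]
    exact P.not_dvd_index
  set X := Y ⊓ L with hX
  obtain ⟨t, ht, T, hTY, hTt, hST, hTd, hTL⟩ : ∃ (t : ℕ) (_ : t.Prime) (T : Subgroup Q), T ≤ Y ∧
      IsPGroup t ↥T ∧ S ≤ normalizer (T : Set Q) ∧ ¬ t ∣ T.relIndex Y ∧ ¬ T ≤ L := by
    by_contra hcon
    push Not at hcon
    refine h.Y_not_le (relIndex_eq_one.1 ?_)
    by_contra h1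
    obtain ⟨r, hr, hd⟩ := Nat.exists_prime_and_dvd h1
    obtain ⟨P, hPY, hPr, hSP, hPd⟩ := hsyl r hr
    exact hPd (hd.trans (relIndex_dvd_of_le_left Y (hcon r hr P hPY hPr hSP hPd)))
  haveI := Fact.mk ht
  have hWT : W ≤ T := (h.hover T hST).resolve_left hTL
  have honly : ∀ r : ℕ, r.Prime → r ∣ X.relIndex Y → r = t := by
    intro r hr hd
    by_contra hne
    haveI := Fact.mk hr
    obtain ⟨P, hPY, hPr, hSP, hPd⟩ := hsyl r hr
    rcases h.hover P hSP with h1 | h1
    · exact hPd (hd.trans (relIndex_dvd_of_le_left Y (le_inf hPY h1)))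
    · refine h.W_ne_bot (le_bot_iff.1 ((le_inf h1 hWT).trans ?_))
      exact (disjoint_iff_inf_le.1 (IsPGroup.disjoint_of_ne r t hne P T hPr hTt))
  -- `Y = X T`
  have hdvd : X.relIndex Y ∣ X.relIndex T := by
    refine (Nat.Coprime.dvd_of_dvd_mul_right (k := X.relIndex Y) (n := T.relIndex Y) ?_ ?_)
    · refine Nat.coprime_of_dvd fun r hr hr1 hr2 => ?_
      exact hTd (honly r hr hr1 ▸ hr2)
    · have e := relIndex_mul_relIndex (X ⊓ T) T Y inf_le_right hTY
      rw [inf_relIndex_right] at e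
      rw [e]
      exact relIndex_dvd_of_le_left Y inf_le_left
  have hfac : ∀ y ∈ Y, ∃ c ∈ X, ∃ τ ∈ T, y = c * τ := by
    intro y hy
    let f := quotientSubgroupOfEmbeddingOfLE X hTY
    have hle : Nat.card (↥Y ⧸ X.subgroupOf Y) ≤ Nat.card (↥T ⧸ X.subgroupOf T) :=
      Nat.le_of_dvd Nat.card_pos hdvd
    have hsurj := (Nat.bijective_iff_injective_and_card f).2 ⟨f.injective,
      le_antisymm (Nat.card_le_card_of_injective f f.injective) hle⟩ |>.2
    obtain ⟨q, hq⟩ := hsurj (QuotientGroup.mk (⟨y⁻¹, inv_mem hy⟩ : ↥Y))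
    induction q using QuotientGroup.induction_on with
    | _ τ =>
      rw [quotientSubgroupOfEmbeddingOfLE_apply_mk] at hq
      have h1 := QuotientGroup.eq.1 hq
      rw [mem_subgroupOf] at h1
      have h2 : y * (τ : Q) ∈ X := by
        have := inv_mem h1
        simpa using this
      exact ⟨y * τ, h2, (τ : Q)⁻¹, inv_mem τ.2, by group⟩
  -- `A` centralizes `X`
  have hXA : ∀ a ∈ A, ∀ c ∈ X, a * c = c * a := by
    have h1 : ⁅X, A⁆ ≤ Y ⊓ A := by
      refine le_inf ((commutator_mono inf_le_left le_rfl).trans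
        (Cfsg.Lib.Coprime.commutator_le_of_le_normalizer (normal_le_normalizer Y A))) ?_
      rw [commutator_comm]
      exact Cfsg.Lib.Coprime.commutator_le_of_le_normalizer (inf_le_right.trans h.hLA)
    have h2 : Y ⊓ A = ⊥ := le_bot_iff.1
      (disjoint_iff_inf_le.1 (Cfsg.Lib.Coprime.disjoint_of_coprime_card (hcop h.hA).symm))
    intro a ha c hc
    exact (Cfsg.Lib.Core.commutator_eq_bot_iff_forall.1 (le_bot_iff.1 (h2 ▸ h1)) c hc a ha).symm
  -- `[Y, A]` consists of `t`-elements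
  have hYA : ⁅Y, A⁆ = ⊥ := by
    rw [Cfsg.Lib.Core.commutator_eq_bot_iff_forall]
    intro y hy a ha
    refine commutatorElement_eq_one_iff_mul_comm.1 ?_
    set D := Subgroup.closure {g | ∃ y ∈ Y, ⁅y, a⁆ = g} with hD
    have hDt : IsPGroup t ↥D := isPGroup_commutators Y X T a inf_le_left hTY hfac hTt
      (hST (h.hAS ha)) (fun c hc => hXA a ha c hc)
    have hDY : D ≤ Y := (closure_le _).2 fun g ⟨z, hz, he⟩ => he ▸ by
      rw [commutatorElement_def, mul_assoc z a, mul_assoc z]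
      exact mul_mem hz ((h.normal).conj_mem _ (inv_mem hz) a)
    have hYD : Y ≤ normalizer (D : Set Q) := by
      refine le_normalizer_closure_iff.2 ?_
      rintro z hz _ ⟨w, hw, rfl⟩
      have e : z * ⁅w, a⁆ * z⁻¹ = ⁅z * w, a⁆ * ⁅z, a⁆⁻¹ := by
        simp only [commutatorElement_def]; group
      rw [e]
      exact mul_mem (subset_closure ⟨_, mul_mem hz hw, rfl⟩) (inv_mem (subset_closure ⟨z, hz, rfl⟩))
    have hDs : D.IsSubnormal := Cfsg.Lib.Core.isSubnormal_of_normal_subgroupOf hDY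
      (Subgroup.Normal.isSubnormal inferInstance) ((normal_subgroupOf_iff_le_normalizer hDY).2 hYD)
    have hDle : D ≤ Cfsg.pCore t Q := Cfsg.Lib.Core.le_pCore_of_isSubnormal hDs hDt
    have hDc : ⁅D, Y⁆ = ⊥ := by
      haveI : (Cfsg.pCore t Q).Normal := inferInstance
      rcases h.dich (Cfsg.pCore t Q) with h1 | h1
      · exact le_bot_iff.1 ((commutator_mono hDle le_rfl).trans (h.cent _ h1).2.le)
      · refine absurd ?_ hnil
        exact ((Cfsg.Lib.Core.pCore_isPGroup t Q).to_le h1).isNilpotent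
    -- hence `y ↦ [y, a]` is a homomorphism into an abelian group
    let φ : ↥Y →* ↥D := MonoidHom.mk' (fun z => ⟨⁅(z : Q), a⁆, subset_closure ⟨z, z.2, rfl⟩⟩)
      fun z w => Subtype.ext (by
        show ⁅(z : Q) * w, a⁆ = ⁅(z : Q), a⁆ * ⁅(w : Q), a⁆
        have hc := Cfsg.Lib.Core.commutator_eq_bot_iff_forall.1 hDc
        have h1 := hc ⁅(w : Q), a⁆ (subset_closure ⟨w, w.2, rfl⟩) z z.2
        have h2 := hc ⁅(w : Q), a⁆ (subset_closure ⟨w, w.2, rfl⟩) ⁅(z : Q), a⁆
          (hDY (subset_closure ⟨z, z.2, rfl⟩))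
        calc ⁅(z : Q) * w, a⁆ = (z : Q) * ⁅(w : Q), a⁆ * (z : Q)⁻¹ * ⁅(z : Q), a⁆ := by
              simp only [commutatorElement_def]; group
          _ = ⁅(w : Q), a⁆ * ⁅(z : Q), a⁆ := by rw [← h1, mul_inv_cancel_right]
          _ = ⁅(z : Q), a⁆ * ⁅(w : Q), a⁆ := h2)
    haveI : IsMulCommutative ↥D := ⟨⟨fun u v => Subtype.ext
      (Cfsg.Lib.Core.commutator_eq_bot_iff_forall.1 hDc u u.2 v (hDY v.2))⟩⟩
    have hker : (⊤ : Subgroup ↥Y) ≤ φ.ker := by
      have hperf : commutator ↥Y = ⊤ := map_injective Y.subtype_injective (by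
        rw [map_subtype_commutator, h.commutator_eq hnil, ← MonoidHom.range_eq_map, range_subtype])
      rw [← hperf]
      rw [_root_.commutator_def]
      refine commutator_le.2 fun u _ v _ => ?_
      rw [MonoidHom.mem_ker, map_commutatorElement, commutatorElement_eq_one_iff_mul_comm]
      exact mul_comm' _ _
    exact congrArg Subtype.val (hker (mem_top (⟨y, hy⟩ : ↥Y)))
  have hAn : A.Normal := by
    rw [← normalizer_eq_top_iff, eq_top_iff, ← h.hYL]
    exact sup_le ((commutator_eq_bot_iff_le_centralizer.1 hYA).trans (centralizer_le_normalizer _))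
      h.hLA
  haveI := hAn
  exact h.hA1 (le_bot_iff.1 (h.hO ▸ Cfsg.Lib.Core.le_pCore h.hA))

end Setup

end Cfsg.Lib.Local.Isolated
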