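import Cfsg.Prelude.Def_LocalEven
import Cfsg.Agent.Lib.Fusion.Basic
import Cfsg.Agent.Lib.Local.Basic
import Cfsg.Agent.Lib.Local.PMinimalComponents
import Cfsg.Agent.Lib.Local.Isolated.Layer

/-!
Isolated `p`-minimal subgroups: reduction to the configuration modulo `O_p(G)`.
-/

set_option autoImplicit false

namespace Cfsg.Lib.Local.Isolated

open Subgroup
open scoped commutatorElement

variable {G : Type*} [Group G]

/-- The subgroup generated by `N(S)` and the `p`-minimal overgroups of `S` other than `P`. -/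
def others {p : ℕ} (S P : Subgroup G) : Subgroup G :=
  normalizer (S : Set G) ⊔
    ⨆ P' : {P' : Subgroup G // S ≤ P' ∧ Cfsg.IsPMinimal p ↥P' ∧ P' ≠ P}, (P' : Subgroup G)

/-- `O^p(P)` inside `G`. -/
abbrev res (p : ℕ) (P : Subgroup G) : Subgroup G := (Cfsg.pResidual p ↥P).map P.subtype

variable [Finite G] {p : ℕ} [hp : Fact p.Prime] (S : Sylow p G) {P L Y : Subgroup G}

/-- Every overgroup of `S` lies in `L P`, and in `L` unless it contains `P`. -/
theorem overgroup (hL : others (p := p) (S : Subgroup G) P ≤ L) (X : Subgroup G)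
    (hSX : (S : Subgroup G) ≤ X) : X ≤ L ⊔ P ∧ (¬ P ≤ X → X ≤ L) := by
  induction X using WellFoundedLT.induction with
  | ind K ih =>
    have hcase : K ≤ L → K ≤ L ⊔ P ∧ (¬ P ≤ K → K ≤ L) := fun h => ⟨h.trans le_sup_left, fun _ => h⟩
    by_cases hn : K ≤ normalizer ((S : Subgroup G) : Set G)
    · exact hcase ((hn.trans le_sup_left).trans hL)
    set S' := S.subtype hSX
    have hnn : ¬ (S' : Subgroup ↥K).Normal := fun h =>
      hn ((Subgroup.normal_subgroupOf_iff_le_normalizer hSX).mp h)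
    have hStop : (S' : Subgroup ↥K) ≠ ⊤ := fun h => hnn (h ▸ inferInstance)
    obtain ⟨M₁, hM₁, hS₁⟩ := (eq_top_or_exists_le_coatom _).resolve_left hStop
    by_cases hu : ∀ M : Subgroup ↥K, IsCoatom M → (S' : Subgroup ↥K) ≤ M → M = M₁
    · have hmax : ∀ X : Subgroup ↥K, (S' : Subgroup ↥K) ≤ X → X ≠ ⊤ → X ≤ M₁ := fun X hX hXne => by
        obtain ⟨M', hM', hXM'⟩ := (eq_top_or_exists_le_coatom X).resolve_left hXne
        exact hu M' hM' (hX.trans hXM') ▸ hXM'
      have hmin : Cfsg.IsPMinimal p ↥K := PMin.isPMinimal_of_sylow S' hnn hM₁.1 hS₁ hmax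
      rcases eq_or_ne K P with rfl | hne
      · exact ⟨le_sup_right, fun h => absurd le_rfl h⟩
      · exact hcase (((le_iSup (fun P' : {P' : Subgroup G // (S : Subgroup G) ≤ P' ∧
          Cfsg.IsPMinimal p ↥P' ∧ P' ≠ P} => (P' : Subgroup G)) ⟨K, hSX, hmin, hne⟩).trans
            le_sup_right).trans hL)
    · push Not at hu
      obtain ⟨M₂, hM₂, hS₂, hne⟩ := hu
      have hih : ∀ M : Subgroup ↥K, IsCoatom M → (S' : Subgroup ↥K) ≤ M →
          M.map K.subtype ≤ L ⊔ P ∧ (¬ P ≤ K → M.map K.subtype ≤ L) := by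
        intro M hM hSM
        have hlt : M.map K.subtype < K := lt_of_le_of_ne (Subgroup.map_subtype_le M) fun h => hM.1 (by
          apply Subgroup.map_injective K.subtype_injective
          rw [h, ← MonoidHom.range_eq_map, Subgroup.range_subtype])
        have h := ih _ hlt fun s hs => ⟨⟨s, hSX hs⟩, hSM hs, rfl⟩
        exact ⟨h.1, fun hP => h.2 fun h' => hP (h'.trans hlt.le)⟩
      have htop : M₁ ⊔ M₂ = ⊤ := hM₁.2 _ (left_lt_sup.mpr fun h =>
        hne ((hM₂.le_iff.mp h).resolve_left hM₁.1).symm)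
      have h := congrArg (Subgroup.map K.subtype) htop
      rw [Subgroup.map_sup, ← MonoidHom.range_eq_map, Subgroup.range_subtype] at h
      refine ⟨h.ge.trans (sup_le (hih M₁ hM₁ hS₁).1 (hih M₂ hM₂ hS₂).1), fun hP => ?_⟩
      exact h.ge.trans (sup_le ((hih M₁ hM₁ hS₁).2 hP) ((hih M₂ hM₂ hS₂).2 hP))

/-- The hypotheses of the isolation theorems. -/
structure Isolated (S : Sylow p G) (P L Y : Subgroup G) : Prop where
  hSP : (S : Subgroup G) ≤ P
  hL : L = others (p := p) (S : Subgroup G) P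
  hiso : ¬ (Cfsg.pCore p ↥L).map L.subtype ≤ (Cfsg.pCore p ↥P).map P.subtype
  hY : Y = normalClosure (((Cfsg.pResidual p ↥P).map P.subtype : Subgroup G) : Set G)

namespace Isolated

variable {S}


omit [Finite G] hp in
theorem sylow_le (h : Isolated S P L Y) : (S : Subgroup G) ≤ L := by
  rw [h.hL]
  exact le_normalizer.trans le_sup_left

theorem pCoreOf_le_sylow {K : Subgroup G} (hSK : (S : Subgroup G) ≤ K) :
    (Cfsg.pCore p ↥K).map K.subtype ≤ S :=
  (map_mono (Cfsg.Lib.Core.pCore_le_sylow (S.subtype hSK))).trans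
    (map_le_iff_le_comap.2 le_rfl)

theorem not_le (h : Isolated S P L Y) : ¬ P ≤ L := fun hle => h.hiso
  (Cfsg.Lib.Local.le_pCoreOf (H := P) ((pCoreOf_le_sylow h.sylow_le).trans h.hSP)
    (hle.trans (Cfsg.Lib.Local.le_normalizer_pCoreOf (p := p) L))
    (Cfsg.Lib.Local.pCoreOf_isPGroup L))

theorem pCore_le (h : Isolated S P L Y) : Cfsg.pCore p G ≤ (Cfsg.pCore p ↥P).map P.subtype := by
  have := Cfsg.Lib.Core.inf_pCore_le (p := p) P
  rwa [inf_eq_left.2 ((Cfsg.Lib.Core.pCore_le_sylow S).trans h.hSP)] at this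

omit [Finite G] hp in
theorem W_le_P (_h : Isolated S P L Y) : (res p P) ≤ P := map_subtype_le _

theorem W_sup (h : Isolated S P L Y) : P ≤ (res p P) ⊔ (S : Subgroup G) := fun x hx => by
  have ht := Cfsg.Lib.Fusion.sylow_sup_pResidual (S.subtype h.hSP)
  have h1 : (⟨x, hx⟩ : ↥P) ∈ ((S.subtype h.hSP : Sylow p ↥P) : Subgroup ↥P) ⊔ Cfsg.pResidual p ↥P :=
    ht ▸ mem_top _
  have h2 := mem_map_of_mem P.subtype h1
  rw [Subgroup.map_sup, sup_comm] at h2
  exact (sup_le_sup_left (map_le_iff_le_comap.2 le_rfl) _) h2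

theorem W_not_le (h : Isolated S P L Y) : ¬ (res p P) ≤ L := fun hle =>
  h.not_le (h.W_sup.trans (sup_le hle h.sylow_le))

theorem sylow_le_normalizer_W (h : Isolated S P L Y) :
    (S : Subgroup G) ≤ normalizer (((res p P) : Subgroup G) : Set G) := by
  refine le_trans ?_ (le_normalizer_map P.subtype)
  rw [normalizer_eq_top_iff.2 (Cfsg.Lib.Fusion.pResidual_normal p ↥P), ← MonoidHom.range_eq_map,
    range_subtype]
  exact h.hSP

/-- A subgroup normalized by `S` lies in `L` or contains `O^p(P)`. -/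
theorem le_or (h : Isolated S P L Y) {N : Subgroup G}
    (hN : (S : Subgroup G) ≤ normalizer (N : Set G)) : N ≤ L ∨ (res p P) ≤ N := by
  set X := N ⊔ (S : Subgroup G) with hX
  by_cases hPX : P ≤ X
  · refine Or.inr (map_le_iff_le_comap.2 ?_)
    refine (Subgroup.closure_le _).2 fun w hw => ?_
    show (w : G) ∈ N
    have hw' : (orderOf (w : G)).Coprime p := by
      rw [orderOf_coe]; exact hw
    have hNX : N ≤ X := le_sup_left
    haveI : (N.subgroupOf X).Normal :=
      (normal_subgroupOf_iff_le_normalizer hNX).2 (sup_le le_normalizer hN)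
    obtain ⟨s, hs, n, hn, he⟩ := (Cfsg.Lib.Core.mem_sup_of_le_normalizer hN).1
      (le_of_eq (sup_comm N (S : Subgroup G)) (hPX w.2))
    set q := QuotientGroup.mk' (N.subgroupOf X) ⟨(w : G), hPX w.2⟩ with hq
    have hqs : q = QuotientGroup.mk' (N.subgroupOf X) ⟨s, le_sup_right (a := N) hs⟩ := by
      refine (QuotientGroup.mk'_eq_mk' _).2 ⟨⟨n, hNX hn⟩⁻¹, inv_mem (show n ∈ N from hn), Subtype.ext ?_⟩
      simp [← he]
    have h1 : orderOf q ∣ orderOf (w : G) := by
      have := orderOf_map_dvd (QuotientGroup.mk' (N.subgroupOf X)) (⟨(w : G), hPX w.2⟩ : ↥X)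
      rwa [Subgroup.orderOf_mk] at this
    have h2 : orderOf q ∣ orderOf s := by
      have := orderOf_map_dvd (QuotientGroup.mk' (N.subgroupOf X))
        (⟨s, le_sup_right (a := N) hs⟩ : ↥X)
      rwa [Subgroup.orderOf_mk, ← hqs] at this
    obtain ⟨k, hk⟩ := IsPGroup.iff_orderOf.1 S.isPGroup' ⟨s, hs⟩
    rw [Subgroup.orderOf_mk] at hk
    have h3 : orderOf q = 1 := Nat.eq_one_of_dvd_coprimes (hw'.pow_right k) h1 (hk ▸ h2)
    have h4 := (QuotientGroup.eq_one_iff (N := N.subgroupOf X) ⟨(w : G), hPX w.2⟩).1 (orderOf_eq_one_iff.1 h3)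
    exact h4
  · exact Or.inl (le_sup_left.trans ((overgroup S h.hL.ge X le_sup_right).2 hPX))

theorem sup_eq_top (h : Isolated S P L Y) : Y ⊔ L = ⊤ := by
  refine top_le_iff.1 (((overgroup S h.hL.ge ⊤ le_top).1).trans (sup_le le_sup_right ?_))
  refine h.W_sup.trans (sup_le ?_ (h.sylow_le.trans le_sup_right))
  rw [h.hY]
  exact le_normalClosure.trans le_sup_left

/-- The configuration modulo `O_p(G)`. -/
theorem setup (h : Isolated S P L Y) :
    Setup p ((S : Subgroup G).map (QuotientGroup.mk' (Cfsg.pCore p G)))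
      (((res p P) : Subgroup G).map (QuotientGroup.mk' (Cfsg.pCore p G)))
      (L.map (QuotientGroup.mk' (Cfsg.pCore p G)))
      (Y.map (QuotientGroup.mk' (Cfsg.pCore p G)))
      (((Cfsg.pCore p ↥L).map L.subtype).map (QuotientGroup.mk' (Cfsg.pCore p G))) := by
  set f := QuotientGroup.mk' (Cfsg.pCore p G) with hf
  have hfs : Function.Surjective f := QuotientGroup.mk'_surjective _
  have hker : f.ker ≤ L := by
    rw [hf, QuotientGroup.ker_mk']
    exact (Cfsg.Lib.Core.pCore_le_sylow S).trans h.sylow_le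
  refine
    { hSp := S.isPGroup'.map f
      hSL := map_mono h.sylow_le
      hSW := (map_mono h.sylow_le_normalizer_W).trans (le_normalizer_map f)
      hA := ((Cfsg.Lib.Core.pCore_isPGroup p ↥L).map _).map f
      hAS := map_mono (pCoreOf_le_sylow h.sylow_le)
      hLA := (map_mono (Cfsg.Lib.Local.le_normalizer_pCoreOf (p := p) L)).trans (le_normalizer_map f)
      hA1 := fun h0 => h.hiso ?_
      hO := Cfsg.Lib.Core.pCore_quotient_pCore_eq_bot
      hY := ?_
      hYL := by rw [← Subgroup.map_sup, h.sup_eq_top, Subgroup.map_top_of_surjective f hfs]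
      hWL := fun hle => h.W_not_le ?_
      hover := fun N hN => ?_ }
  · rw [Subgroup.map_eq_bot_iff, QuotientGroup.ker_mk'] at h0
    exact h0.trans h.pCore_le
  · rw [h.hY, Subgroup.map_normalClosure _ f hfs]
    rfl
  · intro w hw
    have hm := hle (mem_map_of_mem f hw)
    rwa [← mem_comap, comap_map_eq, sup_eq_left.2 hker] at hm
  · rcases h.le_or (N := N.comap f) ((map_le_iff_le_comap.1 hN).trans (le_normalizer_comap f)) with h1 | h1
    · refine Or.inl fun n hn => ?_
      obtain ⟨x, rfl⟩ := hfs n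
      exact mem_map_of_mem f (h1 hn)
    · exact Or.inr (map_le_iff_le_comap.2 h1)

/-- `O_p(Y)` is the intersection with `O_p(G)`. -/
theorem pCore_eq_inf (h : Isolated S P L Y) :
    (Cfsg.pCore p ↥Y).map Y.subtype = Cfsg.pCore p G ⊓ Y := by
  haveI : Y.Normal := h.hY ▸ normalClosure_normal
  exact Cfsg.Lib.Core.pCore_map_eq_inf_of_isSubnormal (Subgroup.Normal.isSubnormal inferInstance)

theorem isolated_inner (h : Isolated S P L Y) :
    ¬ (Cfsg.pCore p ↥((Subgroup.normalizer ((S : Subgroup G) : Set G) ⊓ (Y ⊔ (S : Subgroup G))) ⊔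
          ⨆ P' : {P' : Subgroup G // (S : Subgroup G) ≤ P' ∧ P' ≤ Y ⊔ (S : Subgroup G) ∧
            Cfsg.IsPMinimal p ↥P' ∧ P' ≠ P}, (P' : Subgroup G))).map
        (Subgroup.subtype _) ≤ (Cfsg.pCore p ↥P).map P.subtype := by
  set L₀ := (Subgroup.normalizer ((S : Subgroup G) : Set G) ⊓ (Y ⊔ (S : Subgroup G))) ⊔
    ⨆ P' : {P' : Subgroup G // (S : Subgroup G) ≤ P' ∧ P' ≤ Y ⊔ (S : Subgroup G) ∧
      Cfsg.IsPMinimal p ↥P' ∧ P' ≠ P}, (P' : Subgroup G) with hL₀
  have hle : L₀ ≤ L := by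
    rw [h.hL]
    refine sup_le (inf_le_left.trans le_sup_left) (iSup_le fun P' => ?_)
    exact (le_iSup (fun P' : {P' : Subgroup G // (S : Subgroup G) ≤ P' ∧
      Cfsg.IsPMinimal p ↥P' ∧ P' ≠ P} => (P' : Subgroup G))
        ⟨P', P'.2.1, P'.2.2.2.1, P'.2.2.2.2⟩).trans le_sup_right
  intro hcon
  refine h.hiso (le_trans ?_ hcon)
  exact Cfsg.Lib.Local.le_pCoreOf (H := L₀)
    ((pCoreOf_le_sylow h.sylow_le).trans ((le_inf le_normalizer le_sup_right).trans le_sup_left))
    (hle.trans (Cfsg.Lib.Local.le_normalizer_pCoreOf (p := p) L))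
    (Cfsg.Lib.Local.pCoreOf_isPGroup L)

theorem eq_of_le (h : Isolated S P L Y) (hle : Y ≤ (res p P) ⊔ Cfsg.pCore p G) : (res p P) = Y := by
  refine le_antisymm (h.hY ▸ le_normalClosure) ?_
  have hYP : Y ≤ P := hle.trans (sup_le h.W_le_P
    ((Cfsg.Lib.Core.pCore_le_sylow S).trans h.hSP))
  have key : ∀ g : G, (res p P) ≤ ((res p P) : Subgroup G).comap (MulAut.conj g).toMonoidHom := fun g => by
    refine map_le_iff_le_comap.2 ((Subgroup.closure_le _).2 fun w hw => ?_)
    have hwY : g * (w : G) * g⁻¹ ∈ Y := by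
      rw [h.hY]
      exact normalClosure_normal.conj_mem _ (le_normalClosure (mem_map_of_mem _
        (Cfsg.Lib.Fusion.mem_pResidual_of_coprime hw))) g
    refine ⟨⟨g * w * g⁻¹, hYP hwY⟩, Cfsg.Lib.Fusion.mem_pResidual_of_coprime ?_, rfl⟩
    have : orderOf (⟨g * w * g⁻¹, hYP hwY⟩ : ↥P) = orderOf w := by
      rw [← orderOf_coe, ← orderOf_coe w]
      exact orderOf_injective (MulAut.conj g).toMonoidHom (MulAut.conj g).injective _
    rw [this]
    exact hw
  haveI : ((res p P) : Subgroup G).Normal := ⟨fun w hw g => key g hw⟩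
  rw [h.hY]
  exact normalClosure_le_normal le_rfl

end Isolated

end Cfsg.Lib.Local.Isolated
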