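import Cfsg.Agent.Lib.Local.Isolated.Ambient

/-!
The structure of the normal closure of an isolated `p`-minimal subgroup.
-/

set_option autoImplicit false

namespace Cfsg.Lib.Local.Isolated

open Subgroup
open scoped commutatorElement

variable {G : Type*} [Group G] [Finite G] {p : ℕ} [hp : Fact p.Prime] {S : Sylow p G} {P L Y : Subgroup G}

namespace Isolated

theorem normal (h : Isolated S P L Y) : Y.Normal := h.hY ▸ normalClosure_normal

/-- `Y / O_p(Y)` is the image of `Y` modulo `O_p(G)`. -/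
theorem exists_equiv (h : Isolated S P L Y) [(Cfsg.pCore p ↥Y).Normal] :
    ∃ e : (↥Y ⧸ Cfsg.pCore p ↥Y) ≃* ↥(Y.map (QuotientGroup.mk' (Cfsg.pCore p G))),
      ∀ y : ↥Y, ((e (QuotientGroup.mk' (Cfsg.pCore p ↥Y) y) :
        ↥(Y.map (QuotientGroup.mk' (Cfsg.pCore p G)))) : G ⧸ Cfsg.pCore p G) =
          QuotientGroup.mk' (Cfsg.pCore p G) (y : G) := by
  set f := QuotientGroup.mk' (Cfsg.pCore p G)
  have hker : (f.subgroupMap Y).ker = Cfsg.pCore p ↥Y := by
    refine map_injective Y.subtype_injective ?_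
    rw [h.pCore_eq_inf]
    ext x
    simp only [mem_map, MonoidHom.mem_ker, mem_inf, Subgroup.coe_subtype]
    constructor
    · rintro ⟨y, hy, rfl⟩
      exact ⟨(QuotientGroup.eq_one_iff _).1 (congrArg Subtype.val hy), y.2⟩
    · rintro ⟨hxR, hxY⟩
      exact ⟨⟨x, hxY⟩, Subtype.ext ((QuotientGroup.eq_one_iff _).2 hxR), rfl⟩
  exact ⟨(QuotientGroup.quotientMulEquivOfEq hker.symm).trans
    (QuotientGroup.quotientKerEquivOfSurjective _ (f.subgroupMap_surjective Y)), fun y => rfl⟩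

theorem eq_of_nilpotent (h : Isolated S P L Y)
    (hnil : Group.IsNilpotent ↥(Y.map (QuotientGroup.mk' (Cfsg.pCore p G)))) : res p P = Y := by
  refine h.eq_of_le fun y hy => ?_
  have h1 := h.setup.eq_of_nilpotent hnil
  have h2 : y ∈ ((res p P).map (QuotientGroup.mk' (Cfsg.pCore p G))).comap
      (QuotientGroup.mk' (Cfsg.pCore p G)) := by
    rw [h1]
    exact mem_map_of_mem _ hy
  rwa [comap_map_eq, QuotientGroup.ker_mk'] at h2

/-- Either `Y = O^p(P)`, or `Y` is modulo its `p`-core a product of components permuted transitively. -/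
theorem structure_of_isolated (h : Isolated S P L Y) :
    res p P = Y ∨ ∃ _ : (Cfsg.pCore p ↥Y).Normal,
      p ∣ Nat.card (↥Y ⧸ Cfsg.pCore p ↥Y) ∧ Cfsg.layer (↥Y ⧸ Cfsg.pCore p ↥Y) = ⊤ ∧
      ∀ K₁ K₂ : Subgroup (↥Y ⧸ Cfsg.pCore p ↥Y), Cfsg.IsComponent K₁ → Cfsg.IsComponent K₂ →
        ∃ s ∈ (S : Subgroup G), ((K₂.comap (QuotientGroup.mk' (Cfsg.pCore p ↥Y))).map Y.subtype) =
          (((K₁.comap (QuotientGroup.mk' (Cfsg.pCore p ↥Y))).map Y.subtype)).map
            (MulAut.conj s).toMonoidHom := by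
  by_cases hnil : Group.IsNilpotent ↥(Y.map (QuotientGroup.mk' (Cfsg.pCore p G)))
  · exact Or.inl (h.eq_of_nilpotent hnil)
  refine Or.inr ⟨inferInstance, ?_⟩
  haveI := h.normal
  set f := QuotientGroup.mk' (Cfsg.pCore p G) with hf
  have hfs : Function.Surjective f := QuotientGroup.mk'_surjective _
  haveI : (Y.map f).Normal := Normal.map inferInstance f hfs
  obtain ⟨e, he⟩ := h.exists_equiv
  refine ⟨?_, ?_, fun K₁ K₂ h₁ h₂ => ?_⟩
  · rw [Nat.card_congr e.toEquiv]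
    exact h.setup.dvd_card hnil
  · refine map_injective (f := e.toMonoidHom) e.injective ?_
    rw [Subgroup.map_top_of_surjective e.toMonoidHom e.surjective, ← h.setup.layer_eq_top hnil]
    exact Cfsg.Lib.Core.map_layer_equiv e
  -- the components
  have hsub : (Y.map f).IsSubnormal := Subgroup.Normal.isSubnormal inferInstance
  have hcomp : ∀ K : Subgroup (↥Y ⧸ Cfsg.pCore p ↥Y), Cfsg.IsComponent K →
      Cfsg.IsComponent ((K.map e.toMonoidHom).map (Y.map f).subtype) ∧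
      (K.comap (QuotientGroup.mk' (Cfsg.pCore p ↥Y))).map Y.subtype =
        ((K.map e.toMonoidHom).map (Y.map f).subtype).comap f ⊓ Y := fun K hK => by
    refine ⟨(Cfsg.Lib.Core.isComponent_map_subtype_iff hsub _).2
      (Cfsg.Lib.Core.IsComponent.map_equiv hK e), ?_⟩
    ext x
    simp only [mem_map, mem_comap, mem_inf, MulEquiv.coe_toMonoidHom, Subgroup.coe_subtype]
    constructor
    · rintro ⟨y, hy, rfl⟩
      exact ⟨⟨_, ⟨_, hy, rfl⟩, he y⟩, y.2⟩
    · rintro ⟨⟨_, ⟨k, hk, rfl⟩, hkx⟩, hxY⟩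
      refine ⟨⟨x, hxY⟩, ?_, rfl⟩
      have : QuotientGroup.mk' (Cfsg.pCore p ↥Y) ⟨x, hxY⟩ = k :=
        e.injective (Subtype.ext ((he ⟨x, hxY⟩).trans hkx.symm))
      rw [this]
      exact hk
  obtain ⟨hK₁, e₁⟩ := hcomp K₁ h₁
  obtain ⟨hK₂, e₂⟩ := hcomp K₂ h₂
  obtain ⟨_, ⟨s, hs, rfl⟩, hconj⟩ := h.setup.transitive hnil hK₁ (map_subtype_le _) hK₂ (map_subtype_le _)
  refine ⟨s, hs, ?_⟩
  rw [e₁, e₂, hconj, map_inf _ _ _ (MulAut.conj s).injective,
    Cfsg.Lib.Core.normal_iff_map_conj.1 (inferInstance : Y.Normal) s]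
  congr 1
  ext x
  simp only [mem_map, mem_comap, MulEquiv.coe_toMonoidHom, MulAut.conj_apply]
  constructor
  · rintro ⟨u, hu, hux⟩
    refine ⟨s⁻¹ * x * s, ⟨?_, by group⟩⟩
    have : f (s⁻¹ * x * s) = u := by
      rw [map_mul, map_mul, map_inv, ← hux, ← hf]
      group
    rwa [this]
  · rintro ⟨v, hv, rfl⟩
    exact ⟨f v, hv, by simp only [map_mul, map_inv]; rfl⟩

theorem le_fitting_star (h : Isolated S P L Y) :
    res p P ≤ (Cfsg.generalizedFittingSubgroup (G ⧸ Cfsg.pCore p G)).comap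
      (QuotientGroup.mk' (Cfsg.pCore p G)) :=
  map_le_iff_le_comap.1 (h.setup.W_le.trans h.setup.le_generalizedFitting)

theorem structure_of_solvable (h : Isolated S P L Y) (hs : Group.IsSolvable ↥Y) :
    res p P = Y ∧ ∃ _ : (Cfsg.pCore p ↥Y).Normal, ∃ t : ℕ, t.Prime ∧ t ≠ p ∧
      IsPGroup t (↥Y ⧸ Cfsg.pCore p ↥Y) ∧ ∃ _ : Group.IsNilpotent (↥Y ⧸ Cfsg.pCore p ↥Y),
        Group.nilpotencyClass (↥Y ⧸ Cfsg.pCore p ↥Y) ≤ 2 := by
  haveI := h.normal
  haveI := hs
  set f := QuotientGroup.mk' (Cfsg.pCore p G) with hf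
  have hnil : Group.IsNilpotent ↥(Y.map f) := by
    by_contra hnil
    haveI : Group.IsSolvable ↥(Y.map f) := Group.isSolvable_of_surjective (f.subgroupMap_surjective Y)
    have hne : Y.map f ≠ ⊥ := fun h0 => h.setup.Y_not_le (h0 ▸ bot_le)
    haveI : Nontrivial ↥(Y.map f) := (nontrivial_iff_ne_bot _).2 hne
    haveI : Group.IsPerfect ↥(Y.map f) := isPerfect_iff.2 (h.setup.commutator_eq hnil)
    exact Group.IsPerfect.not_isSolvable ↥(Y.map f) inferInstance
  obtain ⟨e, -⟩ := h.exists_equiv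
  obtain ⟨t, ht, htp, hYt⟩ := h.setup.exists_prime hnil
  haveI := Fact.mk ht
  haveI := hnil
  haveI hnilq : Group.IsNilpotent (↥Y ⧸ Cfsg.pCore p ↥Y) := nilpotent_of_mulEquiv e.symm
  refine ⟨h.eq_of_nilpotent hnil, inferInstance, t, ht, htp, hYt.of_equiv e.symm, hnilq, ?_⟩
  have h2 : Group.nilpotencyClass ↥(Y.map f) ≤ 2 := by
    rw [← Subgroup.lowerCentralSeries_eq_bot_iff_nilpotencyClass_le]
    refine map_injective (Y.map f).subtype_injective ?_
    rw [Subgroup.map_bot, ← (h.setup.class_two hnil).2]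
    simp [Subgroup.lowerCentralSeries_succ, map_commutator, ← MonoidHom.range_eq_map, hf]
  exact le_trans (nilpotencyClass_le_of_surjective e.symm.toMonoidHom e.symm.surjective) h2

end Isolated

end Cfsg.Lib.Local.Isolated
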